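import Mathlib

/-!
# The product `∏ (x - j + v j)` of a shifted row (helper463, for S4766)
-/

set_option autoImplicit false

namespace Cfsg.Agent.H463.Erd

open Finset

theorem card_gt_sq_le {x s : ℕ} {v : ℕ → ℕ} (hv : Antitone v) (hs : ∑ j ∈ range x, v j ≤ s) :
    ((range x).filter fun j => j < v j).card ^ 2 ≤ s := by
  classical
  set A := (range x).filter fun j => j < v j with hA
  set r := A.card with hr
  rcases Nat.eq_zero_or_pos r with h0 | hpos
  · rw [h0]
    exact Nat.zero_le _
  -- `A` is the initial segment `range r`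
  have hdown : ∀ j ∈ A, ∀ i ≤ j, i ∈ A := by
    intro j hj i hij
    rw [hA, mem_filter, mem_range] at hj ⊢
    have := hv hij
    exact ⟨by omega, by omega⟩
  have hsub : range r ⊆ A := by
    intro i hi
    rw [mem_range] at hi
    by_contra hn
    have h1 : A ⊆ range i := by
      intro j hj
      rw [mem_range]
      by_contra hc
      exact hn (hdown j hj i (by omega))
    have := Finset.card_le_card h1
    rw [card_range] at this
    omega
  have hAeq : range r = A := Finset.eq_of_subset_of_card_le hsub (by rw [card_range])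
  have hr1 : r - 1 ∈ A := by
    rw [← hAeq, mem_range]
    omega
  have hvr : r ≤ v (r - 1) := by
    rw [hA, mem_filter] at hr1
    omega
  calc r ^ 2 = ∑ j ∈ range r, r := by rw [sum_const, card_range, smul_eq_mul, sq]
    _ ≤ ∑ j ∈ range r, v j := by
        refine sum_le_sum fun j hj => ?_
        rw [mem_range] at hj
        exact hvr.trans (hv (by omega))
    _ ≤ ∑ j ∈ range x, v j := by
        refine sum_le_sum_of_subset ?_
        rw [hAeq, hA]
        exact filter_subset _ _
    _ ≤ s := hs

/-- The shifted product differs from `x!` by `r` factors above and below, `r ^ 2 ≤ s`. -/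
theorem G_form {x s : ℕ} {v : ℕ → ℕ} (hv : Antitone v) (hs : ∑ j ∈ range x, v j ≤ s) :
    ∃ r E F : ℕ, r ^ 2 ≤ s ∧ 0 < F ∧ F ≤ x ^ r ∧ 0 < E ∧ E ≤ (x + s) ^ r ∧
      (∏ j ∈ range x, (x - j + v j)) * F = x.factorial * E := by
  classical
  set f : ℕ → ℕ := fun j => x - j + v j with hf
  have hinj : Set.InjOn f (range x) := by
    intro i hi j hj hij
    rw [coe_range, Set.mem_Iio] at hi hj
    rcases lt_trichotomy i j with h | h | h
    · exfalso
      have := hv h.le
      simp only [hf] at hij
      omega
    · exact h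
    · exfalso
      have := hv h.le
      simp only [hf] at hij
      omega
  set S := (range x).image f with hS
  set I := Icc 1 x with hI
  set A := (range x).filter fun j => j < v j with hA
  have hcS : S.card = x := by rw [hS, card_image_of_injOn hinj, card_range]
  have hcI : I.card = x := by rw [hI, Nat.card_Icc]; omega
  have hprodS : ∏ y ∈ S, y = ∏ j ∈ range x, (x - j + v j) := by
    rw [hS, prod_image hinj]
  have hprodI : ∏ y ∈ I, y = x.factorial := by
    rw [← Finset.prod_Ico_id_eq_factorial x, hI]
    refine Finset.prod_congr ?_ fun _ _ => rfl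
    ext y
    rw [mem_Icc, mem_Ico]
    omega
  have hSI : S \ I = A.image f := by
    ext y
    simp only [hS, hI, hA, mem_sdiff, mem_image, mem_range, mem_Icc, mem_filter]
    constructor
    · rintro ⟨⟨j, hj, rfl⟩, h2⟩
      refine ⟨j, ⟨hj, ?_⟩, rfl⟩
      simp only [hf] at h2
      omega
    · rintro ⟨j, ⟨hj, h1⟩, rfl⟩
      refine ⟨⟨j, hj, rfl⟩, ?_⟩
      simp only [hf]
      omega
  have hcA : (S \ I).card = A.card := by
    rw [hSI, card_image_of_injOn]
    exact hinj.mono (by
      intro j hj
      rw [hA, coe_filter] at hj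
      exact hj.1)
  have hcIS : (I \ S).card = A.card := by
    rw [← hcA]
    exact Finset.card_sdiff_comm (by rw [hcS, hcI])
  have h0 : ∀ y ∈ S ∪ I, 0 < y := by
    intro y hy
    rw [mem_union] at hy
    rcases hy with hy | hy
    · rw [hS, mem_image] at hy
      obtain ⟨j, hj, rfl⟩ := hy
      rw [mem_range] at hj
      simp only [hf]
      omega
    · rw [hI, mem_Icc] at hy
      omega
  refine ⟨A.card, ∏ y ∈ S \ I, y, ∏ y ∈ I \ S, y, card_gt_sq_le hv hs, ?_, ?_, ?_, ?_, ?_⟩
  · exact prod_pos fun y hy => h0 y (mem_union_right _ (mem_sdiff.1 hy).1)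
  · rw [← hcIS]
    refine prod_le_pow_card _ _ _ fun y hy => ?_
    have := (mem_sdiff.1 hy).1
    rw [hI, mem_Icc] at this
    exact this.2
  · exact prod_pos fun y hy => h0 y (mem_union_left _ (mem_sdiff.1 hy).1)
  · rw [← hcA]
    refine prod_le_pow_card _ _ _ fun y hy => ?_
    have := (mem_sdiff.1 hy).1
    rw [hS, mem_image] at this
    obtain ⟨j, hj, rfl⟩ := this
    have hvj : v j ≤ s := (single_le_sum (fun _ _ => Nat.zero_le _) hj).trans hs
    simp only [hf]
    omega
  · rw [← hprodS, ← hprodI]
    have e1 : (∏ y ∈ S, y) * ∏ y ∈ I \ S, y = ∏ y ∈ S ∪ I, y := by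
      rw [← prod_union disjoint_sdiff, union_sdiff_self_eq_union]
    have e2 : (∏ y ∈ I, y) * ∏ y ∈ S \ I, y = ∏ y ∈ S ∪ I, y := by
      rw [← prod_union disjoint_sdiff, union_sdiff_self_eq_union, union_comm]
    rw [e1, e2]

end Cfsg.Agent.H463.Erd
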