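import Mathlib

/-!
# Erdős' counting of the prime divisors of a binomial coefficient (helper463, for S4766)
-/

set_option autoImplicit false

namespace Cfsg.Agent.H463.Erd

open Finset
open scoped Nat

local notation "ψ" => Chebyshev.psi
local notation "θ" => Chebyshev.theta

/-- The prime powers dividing a binomial coefficient: large primes are controlled by `M`. -/
theorem log_choose_le {a Y M : ℕ} (hYa : Y ≤ a) (hM : 0 < M)
    (h : ∀ p : ℕ, p.Prime → Y < p → (a.choose Y).factorization p ≤ M.factorization p) :
    Real.log (a.choose Y) ≤ ψ Y + Nat.primeCounting (Nat.sqrt a) * Real.log a + Real.log M := by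
  classical
  set C := a.choose Y with hC
  have hCpos : 0 < C := Nat.choose_pos hYa
  rcases Nat.eq_zero_or_pos a with ha0 | hapos
  · have hY0 : Y = 0 := by omega
    subst hY0
    subst ha0
    have h1 : C = 1 := by rw [hC]; rfl
    rw [h1]
    have h2 : (0 : ℝ) ≤ Real.log M := Real.log_nonneg (by exact_mod_cast hM)
    have h3 : (0 : ℝ) ≤ ψ ((0 : ℕ) : ℝ) := Chebyshev.psi_nonneg _
    simp only [Nat.cast_one, Real.log_one, Nat.cast_zero, Real.log_zero, mul_zero, add_zero]
    simpa using add_nonneg h3 h2
  have hloga : 0 ≤ Real.log a := Real.log_nonneg (by exact_mod_cast hapos)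
  rw [Real.log_nat_eq_sum_factorization C, Finsupp.sum]
  set P := C.factorization.support with hP
  have hPp : ∀ p ∈ P, p.Prime := by
    intro p hp
    rw [hP, Nat.support_factorization] at hp
    exact Nat.prime_of_mem_primeFactors hp
  rw [← Finset.sum_filter_add_sum_filter_not P (fun p => p ≤ Y),
    ← Finset.sum_filter_add_sum_filter_not (P.filter fun p => p ≤ Y) (fun p => p ≤ Nat.sqrt a)]
  have e1 : ∑ p ∈ (P.filter fun p => p ≤ Y).filter (fun p => p ≤ Nat.sqrt a),
      (C.factorization p : ℝ) * Real.log p ≤ Nat.primeCounting (Nat.sqrt a) * Real.log a := by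
    have e2 : ∀ p ∈ (P.filter fun p => p ≤ Y).filter (fun p => p ≤ Nat.sqrt a),
        (C.factorization p : ℝ) * Real.log p ≤ Real.log a := by
      intro p hp
      rw [mem_filter, mem_filter] at hp
      have hpp := hPp p hp.1.1
      have h1 : p ^ C.factorization p ≤ a := Nat.pow_factorization_choose_le hapos
      have h2 : Real.log ((p ^ C.factorization p : ℕ) : ℝ) ≤ Real.log a :=
        Real.log_le_log (by exact_mod_cast pow_pos hpp.pos _) (by exact_mod_cast h1)
      rwa [Nat.cast_pow, Real.log_pow] at h2
    refine (Finset.sum_le_card_nsmul _ _ _ e2).trans ?_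
    rw [nsmul_eq_mul]
    refine mul_le_mul_of_nonneg_right ?_ hloga
    have h3 : ((P.filter fun p => p ≤ Y).filter (fun p => p ≤ Nat.sqrt a)).card ≤
        Nat.primeCounting (Nat.sqrt a) := by
      rw [Nat.primeCounting, Nat.primeCounting', Nat.count_eq_card_filter_range]
      apply Finset.card_le_card
      intro p hp
      rw [mem_filter, mem_filter] at hp
      rw [mem_filter, mem_range]
      exact ⟨Nat.lt_succ_of_le hp.2, hPp p hp.1.1⟩
    exact_mod_cast h3
  have e3 : ∑ p ∈ (P.filter fun p => p ≤ Y).filter (fun p => ¬ p ≤ Nat.sqrt a),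
      (C.factorization p : ℝ) * Real.log p ≤ ψ Y := by
    refine le_trans ?_ (Chebyshev.theta_le_psi _)
    rw [Chebyshev.theta_eq_sum_primesLE_log]
    have h4 : ∀ p ∈ (P.filter fun p => p ≤ Y).filter (fun p => ¬ p ≤ Nat.sqrt a),
        (C.factorization p : ℝ) * Real.log p ≤ Real.log p := by
      intro p hp
      rw [mem_filter, mem_filter] at hp
      have hpp := hPp p hp.1.1
      have h5 : a < p ^ 2 := by
        rw [sq]
        exact Nat.sqrt_lt.1 (by omega)
      have h6 : C.factorization p ≤ 1 := Nat.factorization_choose_le_one h5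
      have h7 : (0 : ℝ) ≤ Real.log p := Real.log_nonneg (by exact_mod_cast hpp.one_lt.le)
      have h8 : (C.factorization p : ℝ) ≤ 1 := by exact_mod_cast h6
      nlinarith
    refine (Finset.sum_le_sum h4).trans ?_
    refine Finset.sum_le_sum_of_subset_of_nonneg ?_ ?_
    · intro p hp
      rw [mem_filter, mem_filter] at hp
      rw [Nat.mem_primesLE]
      exact ⟨hp.1.2, hPp p hp.1.1⟩
    · intro p hp _
      rw [Nat.mem_primesLE] at hp
      exact Real.log_nonneg (by exact_mod_cast hp.2.one_lt.le)
  have e4 : ∑ p ∈ P.filter (fun p => ¬ p ≤ Y), (C.factorization p : ℝ) * Real.log p ≤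
      Real.log M := by
    rw [Real.log_nat_eq_sum_factorization M, Finsupp.sum]
    have h9 : P.filter (fun p => ¬ p ≤ Y) ⊆ M.factorization.support := by
      intro p hp
      rw [mem_filter] at hp
      have h10 : C.factorization p ≠ 0 := Finsupp.mem_support_iff.1 hp.1
      have h11 := h p (hPp p hp.1) (by omega)
      rw [Finsupp.mem_support_iff]
      omega
    refine le_trans (Finset.sum_le_sum (f := fun p => (C.factorization p : ℝ) * Real.log p)
      (g := fun p => (M.factorization p : ℝ) * Real.log p) ?_)
      (Finset.sum_le_sum_of_subset_of_nonneg h9 ?_)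
    · intro p hp
      rw [mem_filter] at hp
      have hpp := hPp p hp.1
      refine mul_le_mul_of_nonneg_right ?_ (Real.log_nonneg (by exact_mod_cast hpp.one_lt.le))
      exact_mod_cast h p hpp (by omega)
    · intro p _ _
      exact mul_nonneg (Nat.cast_nonneg _) (Real.log_natCast_nonneg p)
  linarith

theorem fact_factorization {b k p : ℕ} (hbk : b ≤ k) (hp : p.Prime)
    (h : ∀ x, b < x → x ≤ k → ¬ p ∣ x) : (k !).factorization p = (b !).factorization p := by
  have h1 : b ! * (b + 1).ascFactorial (k - b) = k ! := by
    rw [Nat.factorial_mul_ascFactorial, Nat.add_sub_cancel' hbk]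
  rw [← h1, Nat.factorization_mul b.factorial_ne_zero (by
    have := k.factorial_ne_zero
    rw [← h1] at this
    exact right_ne_zero_of_mul this), Finsupp.add_apply]
  have h2 : ((b + 1).ascFactorial (k - b)).factorization p = 0 := by
    apply Nat.factorization_eq_zero_of_not_dvd
    rw [Nat.ascFactorial_eq_prod_range]
    intro h3
    obtain ⟨i, hi, h4⟩ := (Prime.dvd_finsetProd_iff hp.prime _).1 h3
    rw [mem_range] at hi
    exact h _ (by omega) (by omega) h4
  rw [h2, add_zero]

/-- **Erdős' count.** -/
theorem log_choose_le_of_eq {k a b Y E h F : ℕ} (hab : a = b + Y) (hbk : b ≤ k) (hka : k ≤ a)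
    (heq : a ! * b ! * (E * h) = (k !) ^ 2 * F) (hF : 0 < F)
    (hh : ∀ p : ℕ, p.Prime → p ∣ h → p ≤ Y) :
    Real.log (a.choose Y) ≤ ψ Y + Nat.primeCounting (Nat.sqrt a) * Real.log a +
      Real.log ((E * F : ℕ) : ℝ) := by
  have hne : E * h ≠ 0 := by
    intro h0
    rw [h0, mul_zero] at heq
    exact (Nat.mul_pos (pow_pos k.factorial_pos 2) hF).ne heq
  have hE : E ≠ 0 := left_ne_zero_of_mul hne
  have hh0 : h ≠ 0 := right_ne_zero_of_mul hne
  refine log_choose_le (by omega) (Nat.mul_pos (Nat.pos_of_ne_zero hE) hF) fun p hp hYp => ?_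
  have hC : a.choose Y * Y ! * b ! = a ! := by
    have := Nat.choose_mul_factorial_mul_factorial (n := a) (k := Y) (by omega)
    rwa [show a - Y = b by omega] at this
  have v1 : (a.choose Y).factorization p + (b !).factorization p = (a !).factorization p := by
    rw [← hC, Nat.factorization_mul (Nat.mul_pos (Nat.choose_pos (by omega)) Y.factorial_pos).ne'
      b.factorial_ne_zero, Nat.factorization_mul (Nat.choose_pos (by omega)).ne'
      Y.factorial_ne_zero, Finsupp.add_apply, Finsupp.add_apply]
    have : (Y !).factorization p = 0 := by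
      apply Nat.factorization_eq_zero_of_not_dvd
      intro hd
      have := (Nat.Prime.dvd_factorial hp).1 hd
      omega
    omega
  have v2 : (a !).factorization p + (b !).factorization p + E.factorization p =
      2 * (k !).factorization p + F.factorization p := by
    have e := congrArg (fun z => z.factorization p) heq
    rw [Nat.factorization_mul (Nat.mul_pos a.factorial_pos b.factorial_pos).ne' hne,
      Nat.factorization_mul a.factorial_ne_zero b.factorial_ne_zero, Nat.factorization_mul hE hh0,
      Nat.factorization_mul (pow_pos k.factorial_pos 2).ne' hF.ne', Nat.factorization_pow] at e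
    simp only [Finsupp.add_apply, Finsupp.smul_apply, smul_eq_mul] at e
    have : h.factorization p = 0 := by
      apply Nat.factorization_eq_zero_of_not_dvd
      intro hd
      have := hh p hp hd
      omega
    omega
  have v3 : (E * F).factorization p = E.factorization p + F.factorization p := by
    rw [Nat.factorization_mul hE hF.ne', Finsupp.add_apply]
  rw [v3]
  by_cases hc : ∀ x, b < x → x ≤ k → ¬ p ∣ x
  · have := fact_factorization hbk hp hc
    omega
  · push Not at hc
    obtain ⟨x, hbx, hxk, hpx⟩ := hc
    have h2 : ∀ y, k < y → y ≤ a → ¬ p ∣ y := by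
      intro y hky hya hpy
      have h3 : p ∣ y - x := Nat.dvd_sub hpy hpx
      have h4 := Nat.le_of_dvd (by omega) h3
      omega
    have := fact_factorization hka hp h2
    omega

end Cfsg.Agent.H463.Erd
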