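import Mathlib
import Cfsg.Agent.H357.Cheb

/-!
# The numerical part of Erdős' count (helper463, for S4766)
-/

set_option autoImplicit false

namespace Cfsg.Agent.H463.Erd

open Cfsg.Agent.H357.Cheb

theorem log_hundred : Real.log 100 ≤ 4.60518 := by
  have e : Real.log 100 = 2 * Real.log 2 + 2 * Real.log 5 := by
    rw [show (100 : ℝ) = 2 ^ 2 * 5 ^ 2 by norm_num, Real.log_mul (by norm_num) (by norm_num),
      Real.log_pow, Real.log_pow]
    push_cast
    ring
  rw [e]
  have := Real.log_two_lt_d9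
  have := Real.log_five_lt_d9
  linarith

theorem log_hundred' : 4.605 ≤ Real.log 100 := by
  have e : Real.log 100 = 2 * Real.log 2 + 2 * Real.log 5 := by
    rw [show (100 : ℝ) = 2 ^ 2 * 5 ^ 2 by norm_num, Real.log_mul (by norm_num) (by norm_num),
      Real.log_pow, Real.log_pow]
    push_cast
    ring
  rw [e]
  have := Real.log_two_gt_d9
  have := Real.log_five_gt_d9
  linarith

theorem log_four_tenth : Real.log 0.4 ≤ -0.9162 := by
  have e : Real.log 0.4 = Real.log 2 - Real.log 5 := by
    rw [← Real.log_div (by norm_num) (by norm_num)]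
    norm_num
  rw [e]
  have := Real.log_two_lt_d9
  have := Real.log_five_gt_d9
  linarith

theorem log_three_half : 0.4054 ≤ Real.log 1.5 := by
  have e : Real.log 1.5 = Real.log 3 - Real.log 2 := by
    rw [← Real.log_div (by norm_num) (by norm_num)]
    norm_num
  rw [e]
  have := Real.log_two_lt_d9
  have := Real.log_three_gt_d9
  linarith

theorem log_sixteen_ninth : 0.5753 ≤ Real.log (16 / 9) := by
  have e : Real.log (16 / 9) = 4 * Real.log 2 - 2 * Real.log 3 := by
    rw [Real.log_div (by norm_num) (by norm_num), show (16 : ℝ) = 2 ^ 4 by norm_num,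
      show (9 : ℝ) = 3 ^ 2 by norm_num, Real.log_pow, Real.log_pow]
    push_cast
    ring
  rw [e]
  have := Real.log_two_gt_d9
  have := Real.log_three_lt_d9
  linarith

/-- the main term, `y ≤ x² / 10` -/
theorem small_case {x y b u d R : ℝ} (hx : 100 ≤ x) (hu : u = Real.log x) (hu0 : 4.605 ≤ u)
    (hypos : 0 < y) (hy0 : 3.4641 * x ≤ y)
    (hb : 0.9 * x ^ 2 ≤ b) (h10 : 10 * y ≤ x ^ 2) (hd0 : 0 < d) (hd1 : d ≤ 0.095947)
    (hdx : d * x = 9.5947)
    (hR : R = 24 * u - 9.99 + 0.78888 * (x * u) + 0.13672 * x + 10 * u + 5.4935)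
    (hmain : y * (Real.log b - Real.log y) - y * (d + 0.1431) ≤ R) : False := by
  have hx0 : 0 < x := by linarith
  have hx2 : 0 < x ^ 2 := by positivity
  set t := Real.log (0.9 * x ^ 2) - Real.log y with ht
  have hbt : t ≤ Real.log b - Real.log y := by
    have h2 := Real.log_le_log (by positivity) hb
    rw [ht]
    linarith
  have ht1 : 1.25 ≤ t := by
    have h1' : 9 * y ≤ 0.9 * x ^ 2 := by linarith
    have h2 := Real.log_le_log (by positivity) h1'
    rw [Real.log_mul (by norm_num) hypos.ne', show (9 : ℝ) = 3 ^ 2 by norm_num, Real.log_pow] at h2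
    have h3 := Real.log_three_gt_d9
    rw [ht]
    push_cast at h2
    linarith
  obtain ⟨y0, hy0d⟩ : ∃ y0, y0 = 3.4641 * x := ⟨_, rfl⟩
  rw [← hy0d] at hy0
  have hy0p : 0 < y0 := by
    rw [hy0d]
    positivity
  have h1 : Real.log y - Real.log y0 ≤ y / y0 - 1 := by
    rw [← Real.log_div hypos.ne' hy0p.ne']
    exact Real.log_le_sub_one_of_pos (by positivity)
  have h2 : y0 * (Real.log y - Real.log y0) ≤ y - y0 := by
    have h3 := mul_le_mul_of_nonneg_left h1 hy0p.le
    have h4 : y0 * (y / y0 - 1) = y - y0 := by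
      field_simp
    linarith
  obtain ⟨t0, ht0⟩ : ∃ t0, t0 = Real.log (0.9 * x ^ 2) - Real.log y0 := ⟨_, rfl⟩
  have h5 : y0 * t0 ≤ y0 * t + (y - y0) := by
    have e : t0 = t + (Real.log y - Real.log y0) := by
      rw [ht0, ht]
      ring
    rw [e, mul_add]
    linarith
  have h6 : u - 1.3863 ≤ t0 := by
    have h7 : x * y0 ≤ 4 * (0.9 * x ^ 2) := by
      rw [hy0d]
      have : x * (3.4641 * x) = 3.4641 * x ^ 2 := by ring
      rw [this]
      linarith
    have h8 := Real.log_le_log (by positivity) h7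
    rw [Real.log_mul (by positivity) (by positivity), Real.log_mul (by positivity) (by positivity),
      ← hu] at h8
    have h9 : Real.log 4 = 2 * Real.log 2 := by
      rw [show (4 : ℝ) = 2 ^ 2 by norm_num, Real.log_pow]
      push_cast
      ring
    have h10 := Real.log_two_lt_d9
    rw [ht0]
    linarith
  have h7 : y0 * (t0 - d - 0.1431) ≤ y * (t - d - 0.1431) := by
    have h8 : 0 ≤ (y - y0) * (t - 1 - d - 0.1431) :=
      mul_nonneg (by linarith) (by linarith)
    have e1 : (y - y0) * (t - 1 - d - 0.1431) = y * (t - d - 0.1431) - y0 * (t - d - 0.1431) -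
      (y - y0) := by ring
    have e2 : y0 * (t0 - d - 0.1431) = y0 * t0 - y0 * (d + 0.1431) := by ring
    have e3 : y0 * (t - d - 0.1431) = y0 * t - y0 * (d + 0.1431) := by ring
    rw [e1, e3] at h8
    rw [e2]
    linarith
  have h8 : y0 * (u - 1.3863 - d - 0.1431) ≤ y0 * (t0 - d - 0.1431) :=
    mul_le_mul_of_nonneg_left (by linarith) hy0p.le
  have h9 : y * (t - d - 0.1431) ≤ R := by
    have h10 : y * t ≤ y * (Real.log b - Real.log y) := mul_le_mul_of_nonneg_left hbt hypos.le
    have e : y * (t - d - 0.1431) = y * t - y * (d + 0.1431) := by ring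
    rw [e]
    linarith
  have h10 : y0 * (u - 1.3863 - d - 0.1431) = 3.4641 * (x * u) - 3.4641 * 1.5294 * x -
      3.4641 * (d * x) := by
    rw [hy0d]
    ring
  rw [h10, hdx] at h8
  have h11 : 4.605 * (2.67522 * x - 34) ≤ u * (2.67522 * x - 34) :=
    mul_le_mul_of_nonneg_right hu0 (by linarith)
  have e12 : u * (2.67522 * x - 34) = 2.67522 * (x * u) - 34 * u := by ring
  rw [e12] at h11
  rw [hR] at h9
  linarith

/-- the case `x² / 10 ≤ y` -/
theorem big_case {x y b u d R : ℝ} (hx : 100 ≤ x) (hy1 : y ≤ 0.4 * x ^ 2) (hb : x ^ 2 - y ≤ b)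
    (hypos : 0 < y) (hu1 : u ≤ 3.60518 + 0.01 * x) (h10 : 0.1 * x ^ 2 ≤ y)
    (hd1 : d ≤ 0.095947) (hdx : d * x = 9.5947)
    (hR : R = 24 * u - 9.99 + 0.78888 * (x * u) + 0.13672 * x + 10 * u + 5.4935)
    (hmain : y * (Real.log b - Real.log y) - y * (d + 0.1431) ≤ R) : False := by
  have hx0 : 0 < x := by linarith
  have hx2 : 100 * x ≤ x ^ 2 := by
    rw [sq]
    exact mul_le_mul_of_nonneg_right hx hx0.le
  have hdx2 : d * x ^ 2 = 9.5947 * x := by
    rw [sq, ← mul_assoc, hdx]
  have hxu : x * u ≤ 3.60518 * x + 0.01 * x ^ 2 := by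
    have h1 := mul_le_mul_of_nonneg_left hu1 hx0.le
    have h2 : x * (3.60518 + 0.01 * x) = 3.60518 * x + 0.01 * x ^ 2 := by ring
    linarith
  have hR2 : R ≤ 0.0078888 * x ^ 2 + 3.3208 * x + 118.1 := by
    rw [hR]
    linarith
  have hdiff : ∀ c : ℝ, 0 < c → c * y ≤ b → Real.log c ≤ Real.log b - Real.log y := by
    intro c hc hcy
    have h1 := Real.log_le_log (by positivity) hcy
    rw [Real.log_mul hc.ne' hypos.ne'] at h1
    linarith
  rcases le_or_gt (0.36 * x ^ 2) y with h36 | h36
  · have h1 := hdiff 1.5 (by norm_num) (by linarith)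
    have h2 := log_three_half
    have h3 : y * 0.4054 ≤ y * (Real.log b - Real.log y) :=
      mul_le_mul_of_nonneg_left (h2.trans h1) hypos.le
    have h4 : 0.36 * x ^ 2 * (0.2623 - d) ≤ y * (0.2623 - d) :=
      mul_le_mul_of_nonneg_right h36 (by linarith)
    have e1 : 0.36 * x ^ 2 * (0.2623 - d) = 0.36 * 0.2623 * x ^ 2 - 0.36 * (d * x ^ 2) := by ring
    have e2 : y * (0.2623 - d) = y * 0.4054 - y * (d + 0.1431) := by ring
    rw [e1, e2, hdx2] at h4
    linarith
  rcases le_or_gt (0.25 * x ^ 2) y with h25 | h25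
  · have h1 := hdiff (16 / 9) (by norm_num) (by linarith)
    have h2 := log_sixteen_ninth
    have h3 : y * 0.5753 ≤ y * (Real.log b - Real.log y) :=
      mul_le_mul_of_nonneg_left (h2.trans h1) hypos.le
    have h4 : 0.25 * x ^ 2 * (0.4322 - d) ≤ y * (0.4322 - d) :=
      mul_le_mul_of_nonneg_right h25 (by linarith)
    have e1 : 0.25 * x ^ 2 * (0.4322 - d) = 0.25 * 0.4322 * x ^ 2 - 0.25 * (d * x ^ 2) := by ring
    have e2 : y * (0.4322 - d) = y * 0.5753 - y * (d + 0.1431) := by ring
    rw [e1, e2, hdx2] at h4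
    linarith
  · have h1 := hdiff 3 (by norm_num) (by linarith)
    have h2 := Real.log_three_gt_d9
    have h3 : y * 1.0986 ≤ y * (Real.log b - Real.log y) :=
      mul_le_mul_of_nonneg_left (by linarith) hypos.le
    have h4 : 0.1 * x ^ 2 * (0.9555 - d) ≤ y * (0.9555 - d) :=
      mul_le_mul_of_nonneg_right h10 (by linarith)
    have e1 : 0.1 * x ^ 2 * (0.9555 - d) = 0.1 * 0.9555 * x ^ 2 - 0.1 * (d * x ^ 2) := by ring
    have e2 : y * (0.9555 - d) = y * 1.0986 - y * (d + 0.1431) := by ring
    rw [e1, e2, hdx2] at h4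
    linarith

/-- the numerical contradiction -/
theorem real_contra {x y b r : ℝ} (hx : 100 ≤ x) (hy1 : y ≤ 0.4 * x ^ 2) (hy0 : 3.4641 * x ≤ y)
    (hr : r * (3.4641 * x) ≤ y) (hb : x ^ 2 - y ≤ b)
    (h : y * Real.log b - (y * Real.log y - y + Real.log y + 1) ≤
      1.12 * y + 11 * Real.log y + 0.39444 * x * (2 * Real.log x + 0.3466) +
        (4 * r + 5) * (1.0987 + 2 * Real.log x)) : False := by
  obtain ⟨u, hu⟩ : ∃ u, u = Real.log x := ⟨_, rfl⟩
  rw [← hu] at h
  have hx0 : 0 < x := by linarith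
  have hx2 : 100 * x ≤ x ^ 2 := by
    rw [sq]
    exact mul_le_mul_of_nonneg_right hx hx0.le
  have hypos : 0 < y := by
    have : (0 : ℝ) < 3.4641 * x := by positivity
    linarith
  have hbpos : 0 < b := by linarith
  have hu1 : u ≤ 3.60518 + 0.01 * x := by
    have h1 := log_le_tangent hx0 (show (0 : ℝ) < 100 by norm_num)
    have h2 := log_hundred
    rw [hu]
    linarith
  have hu0 : 4.605 ≤ u := by
    rw [hu]
    exact log_hundred'.trans (Real.log_le_log (by norm_num) hx)
  have hly : Real.log y ≤ 2 * u - 0.9162 := by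
    have h1 := Real.log_le_log hypos hy1
    rw [Real.log_mul (by norm_num) (by positivity), Real.log_pow, ← hu] at h1
    have := log_four_tenth
    push_cast at h1
    linarith
  obtain ⟨d, hd⟩ : ∃ d, d = 9.5947 / x := ⟨_, rfl⟩
  have hdx : d * x = 9.5947 := by
    rw [hd]
    field_simp
  have hdx2 : d * x ^ 2 = 9.5947 * x := by
    rw [sq, ← mul_assoc, hdx]
  have hd0 : 0 < d := by
    rw [hd]
    positivity
  have hd1 : d ≤ 0.095947 := by
    rw [hd, div_le_iff₀ hx0]
    linarith
  -- the `r` term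
  have hrt : 4 * r * (1.0987 + 2 * u) ≤ y * (d + 0.0231) := by
    have h7 : (0 : ℝ) ≤ y / x := by positivity
    have h1 : 4 * r ≤ 1.154702 * (y / x) := by
      have h2 : r ≤ y / (3.4641 * x) := by
        rw [le_div_iff₀ (by positivity)]
        exact hr
      have h3 : y / (3.4641 * x) = (1 / 3.4641) * (y / x) := by
        field_simp
      rw [h3] at h2
      have h4 : (1 / 3.4641 : ℝ) * (y / x) ≤ 0.2886755 * (y / x) :=
        mul_le_mul_of_nonneg_right (by norm_num) h7
      linarith
    have h5 : 1.0987 + 2 * u ≤ 8.30906 + 0.02 * x := by linarith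
    have h6 : (0 : ℝ) ≤ 1.0987 + 2 * u := by linarith
    calc 4 * r * (1.0987 + 2 * u) ≤ 1.154702 * (y / x) * (1.0987 + 2 * u) :=
          mul_le_mul_of_nonneg_right h1 h6
      _ ≤ 1.154702 * (y / x) * (8.30906 + 0.02 * x) :=
          mul_le_mul_of_nonneg_left h5 (by positivity)
      _ = y * (1.154702 * 8.30906 / x + 1.154702 * 0.02) := by
          field_simp
      _ ≤ y * (d + 0.0231) := by
          refine mul_le_mul_of_nonneg_left ?_ hypos.le
          have h8 : 1.154702 * 8.30906 / x ≤ d := by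
            rw [hd, div_le_div_iff_of_pos_right hx0]
            norm_num
          linarith
  have hxu : x * u ≤ 3.60518 * x + 0.01 * x ^ 2 := by
    have h1 := mul_le_mul_of_nonneg_left hu1 hx0.le
    have h2 : x * (3.60518 + 0.01 * x) = 3.60518 * x + 0.01 * x ^ 2 := by ring
    linarith
  -- right hand side
  obtain ⟨R, hR⟩ : ∃ R, R = 24 * u - 9.99 + 0.78888 * (x * u) + 0.13672 * x + 10 * u + 5.4935 :=
    ⟨_, rfl⟩
  have hmain : y * (Real.log b - Real.log y) - y * (d + 0.1431) ≤ R := by
    have e1 : y * (Real.log b - Real.log y) = y * Real.log b - y * Real.log y := by ring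
    have e2 : y * (d + 0.1431) = y * (d + 0.0231) + 0.12 * y := by ring
    have e3 : 0.39444 * x * (2 * u + 0.3466) = 0.78888 * (x * u) + 0.39444 * 0.3466 * x := by ring
    have e4 : (4 * r + 5) * (1.0987 + 2 * u) = 4 * r * (1.0987 + 2 * u) + 5 * (1.0987 + 2 * u) := by
      ring
    rw [e3, e4] at h
    rw [hR, e1, e2]
    have e5 : (0 : ℝ) ≤ x := hx0.le
    linarith
  rcases le_or_gt (0.1 * x ^ 2) y with h10 | h10
  · exact big_case hx hy1 hb hypos hu1 h10 hd1 hdx hR hmain
  · exact small_case hx hu hu0 hypos hy0 (by linarith) (by linarith) hd0 hd1 hdx hR hmain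

/-- the numerical contradiction, second form -/
theorem real_contra' {x y b : ℝ} (hx : 100 ≤ x) (hy1 : y ≤ 0.4 * x ^ 2) (hy0 : 1.4142 * x ≤ y)
    (hb : x ^ 2 - y ≤ b)
    (h : y * Real.log b - (y * Real.log y - y + Real.log y + 1) ≤
      1.12 * y + 11 * Real.log y + 0.39444 * x * (2 * Real.log x + 0.3466) +
        4 * (1.0987 + 2 * Real.log x)) : False := by
  obtain ⟨u, hu⟩ : ∃ u, u = Real.log x := ⟨_, rfl⟩
  rw [← hu] at h
  have hx0 : 0 < x := by linarith
  have hypos : 0 < y := by
    have : (0 : ℝ) < 1.4142 * x := by positivity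
    linarith
  have hu1 : u ≤ 3.60518 + 0.01 * x := by
    have h1 := log_le_tangent hx0 (show (0 : ℝ) < 100 by norm_num)
    have h2 := log_hundred
    rw [hu]
    linarith
  have hu0 : 4.605 ≤ u := by
    rw [hu]
    exact log_hundred'.trans (Real.log_le_log (by norm_num) hx)
  have e3 : 0.39444 * x * (2 * u + 0.3466) = 0.78888 * (x * u) + 0.39444 * 0.3466 * x := by ring
  have e1 : y * (Real.log b - Real.log y) = y * Real.log b - y * Real.log y := by ring
  rw [e3] at h
  rcases le_or_gt (0.1 * x ^ 2) y with h10 | h10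
  · obtain ⟨d, hd⟩ : ∃ d, d = 9.5947 / x := ⟨_, rfl⟩
    have hdx : d * x = 9.5947 := by
      rw [hd]
      field_simp
    have hd0 : 0 < d := by
      rw [hd]
      positivity
    have hd1 : d ≤ 0.095947 := by
      rw [hd, div_le_iff₀ hx0]
      linarith
    have hly : Real.log y ≤ 2 * u - 0.9162 := by
      have h1 := Real.log_le_log hypos hy1
      rw [Real.log_mul (by norm_num) (by positivity), Real.log_pow, ← hu] at h1
      have := log_four_tenth
      push_cast at h1
      linarith
    refine big_case hx hy1 hb hypos hu1 h10 hd1 hdx rfl ?_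
    have e2 : y * (d + 0.1431) = y * d + 0.1431 * y := by ring
    have e4 : 0 ≤ y * d := by positivity
    rw [e1, e2]
    linarith
  · -- `y` small
    have hlb : Real.log (0.9 * x ^ 2) ≤ Real.log b := by
      refine Real.log_le_log (by positivity) ?_
      linarith
    obtain ⟨t, ht⟩ : ∃ t, t = Real.log (0.9 * x ^ 2) - Real.log y := ⟨_, rfl⟩
    have hly : Real.log y ≤ 2 * u - 2.3025 := by
      have h1 := Real.log_le_log hypos h10.le
      rw [Real.log_mul (by norm_num) (by positivity), Real.log_pow, ← hu] at h1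
      have h2 : Real.log 0.1 = -(Real.log 2 + Real.log 5) := by
        rw [← Real.log_mul (by norm_num) (by norm_num), ← Real.log_inv]
        norm_num
      have := Real.log_two_gt_d9
      have := Real.log_five_gt_d9
      push_cast at h1
      linarith
    have ht1 : 1.25 ≤ t := by
      have h1' : 9 * y ≤ 0.9 * x ^ 2 := by linarith
      have h2 := Real.log_le_log (by positivity) h1'
      rw [Real.log_mul (by norm_num) hypos.ne', show (9 : ℝ) = 3 ^ 2 by norm_num,
        Real.log_pow] at h2
      have h3 := Real.log_three_gt_d9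
      rw [ht]
      push_cast at h2
      linarith
    obtain ⟨y0, hy0d⟩ : ∃ y0, y0 = 1.4142 * x := ⟨_, rfl⟩
    rw [← hy0d] at hy0
    have hy0p : 0 < y0 := by
      rw [hy0d]
      positivity
    have h1 : Real.log y - Real.log y0 ≤ y / y0 - 1 := by
      rw [← Real.log_div hypos.ne' hy0p.ne']
      exact Real.log_le_sub_one_of_pos (by positivity)
    have h2 : y0 * (Real.log y - Real.log y0) ≤ y - y0 := by
      have h3 := mul_le_mul_of_nonneg_left h1 hy0p.le
      have h4 : y0 * (y / y0 - 1) = y - y0 := by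
        field_simp
      linarith
    obtain ⟨t0, ht0⟩ : ∃ t0, t0 = Real.log (0.9 * x ^ 2) - Real.log y0 := ⟨_, rfl⟩
    have h5 : y0 * t0 ≤ y0 * t + (y - y0) := by
      have e : t0 = t + (Real.log y - Real.log y0) := by
        rw [ht0, ht]
        ring
      rw [e, mul_add]
      linarith
    have h6 : u - 0.4701 ≤ t0 := by
      have h7 : 5 * (x * y0) ≤ 8 * (0.9 * x ^ 2) := by
        rw [hy0d]
        have e : 5 * (x * (1.4142 * x)) = 7.071 * x ^ 2 := by ring
        have : 0 < x ^ 2 := by positivity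
        rw [e]
        linarith
      have h8 := Real.log_le_log (by positivity) h7
      rw [Real.log_mul (by positivity) (by positivity), Real.log_mul (by positivity)
        (by positivity), Real.log_mul (by positivity) (by positivity), ← hu] at h8
      have h9 : Real.log 8 = 3 * Real.log 2 := by
        rw [show (8 : ℝ) = 2 ^ 3 by norm_num, Real.log_pow]
        push_cast
        ring
      have h10 := Real.log_two_lt_d9
      have h11 := Real.log_five_gt_d9
      rw [ht0]
      linarith
    have h7 : y0 * (t0 - 0.12) ≤ y * (t - 0.12) := by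
      have h8 : 0 ≤ (y - y0) * (t - 1 - 0.12) :=
        mul_nonneg (by linarith) (by linarith)
      have e1 : (y - y0) * (t - 1 - 0.12) = y * (t - 0.12) - y0 * t + 0.12 * y0 - (y - y0) := by
        ring
      have e2 : y0 * (t0 - 0.12) = y0 * t0 - 0.12 * y0 := by ring
      rw [e1] at h8
      rw [e2]
      linarith
    have h8 : y0 * (u - 0.5901) ≤ y0 * (t0 - 0.12) :=
      mul_le_mul_of_nonneg_left (by linarith) hy0p.le
    have h9 : y * t ≤ y * (Real.log b - Real.log y) :=
      mul_le_mul_of_nonneg_left (by linarith) hypos.le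
    have h10 : y0 * (u - 0.5901) = 1.4142 * (x * u) - 1.4142 * 0.5901 * x := by
      rw [hy0d]
      ring
    have h11 : 4.605 * (0.62532 * x - 32) ≤ u * (0.62532 * x - 32) :=
      mul_le_mul_of_nonneg_right hu0 (by linarith)
    have e12 : u * (0.62532 * x - 32) = 0.62532 * (x * u) - 32 * u := by ring
    have e13 : y * (t - 0.12) = y * t - 0.12 * y := by ring
    rw [e12] at h11
    rw [e1] at h9
    rw [h10] at h8
    rw [e13] at h7
    linarith

end Cfsg.Agent.H463.Erd
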