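import Mathlib
import Cfsg.Agent.H357.Syl
import Cfsg.Agent.H463.Erd.Count
import Cfsg.Agent.H463.Erd.Num

/-!
# Erdős' count: the contradiction (helper463, for S4766)
-/

set_option autoImplicit false

namespace Cfsg.Agent.H463.Erd

open Cfsg.Agent.H357.Cheb
open scoped Nat

local notation "ψ" => Chebyshev.psi

theorem log_choose_ge {a b Y : ℕ} (hab : a = b + Y) (hY : 1 ≤ Y) (hb : 1 ≤ b) :
    (Y : ℝ) * Real.log b - (Y * Real.log Y - Y + Real.log Y + 1) ≤ Real.log (a.choose Y) := by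
  have h1 : (a + 1 - Y) ^ Y ≤ a.descFactorial Y := Nat.pow_sub_le_descFactorial a Y
  rw [show a + 1 - Y = b + 1 by omega, Nat.descFactorial_eq_factorial_mul_choose] at h1
  have hC : 0 < a.choose Y := Nat.choose_pos (by omega)
  have h2 : Real.log (((b + 1) ^ Y : ℕ) : ℝ) ≤ Real.log ((Y ! * a.choose Y : ℕ) : ℝ) :=
    Real.log_le_log (by positivity) (by exact_mod_cast h1)
  rw [Nat.cast_pow, Real.log_pow, Nat.cast_mul, Real.log_mul
    (by exact_mod_cast Y.factorial_ne_zero) (by exact_mod_cast hC.ne')] at h2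
  have h3 := L_upper hY
  unfold L at h3
  have h4 : Real.log b ≤ Real.log ((b + 1 : ℕ) : ℝ) :=
    Real.log_le_log (by exact_mod_cast hb) (by push_cast; linarith)
  have h5 : (Y : ℝ) * Real.log b ≤ Y * Real.log ((b + 1 : ℕ) : ℝ) :=
    mul_le_mul_of_nonneg_left h4 (Nat.cast_nonneg _)
  linarith

theorem le_of_sq {x y : ℝ} (hy : 0 ≤ y) (h : x ^ 2 ≤ y ^ 2) : x ≤ y :=
  le_of_sq_le_sq h hy

/-- all the analytic input -/
theorem ineq {k a b Y E h F N : ℕ} {x : ℝ} (hk : 10000 ≤ k) (hab : a = b + Y) (hbk : b ≤ k)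
    (hka : k ≤ a) (hY : 5 * Y ≤ 2 * k) (hY1 : 1 ≤ Y)
    (heq : a ! * b ! * (E * h) = (k !) ^ 2 * F) (hF : 0 < F)
    (hh : ∀ p : ℕ, p.Prime → p ∣ h → p ≤ Y) (hEF : E * F ≤ (3 * k) ^ N)
    (hx : 100 ≤ x) (hxk : x ^ 2 = k) :
    (Y : ℝ) * Real.log b - (Y * Real.log Y - Y + Real.log Y + 1) ≤
      1.12 * Y + 11 * Real.log Y + 0.39444 * x * (2 * Real.log x + 0.3466) +
        N * (1.0987 + 2 * Real.log x) := by
  have hEpos : 0 < E := by
    rcases Nat.eq_zero_or_pos E with h0 | h0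
    · exfalso
      rw [h0, zero_mul, mul_zero] at heq
      exact (Nat.mul_pos (pow_pos k.factorial_pos 2) hF).ne heq
    · exact h0
  have hkR : (10000 : ℝ) ≤ k := by exact_mod_cast hk
  have hlogk : Real.log k = 2 * Real.log x := by
    rw [← hxk, Real.log_pow]
    push_cast
    ring
  have hYR : (5 : ℝ) * Y ≤ 2 * k := by exact_mod_cast hY
  have haR : (a : ℝ) = b + Y := by exact_mod_cast hab
  have hkaR : (k : ℝ) ≤ a := by exact_mod_cast hka
  have hbkR : (b : ℝ) ≤ k := by exact_mod_cast hbk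
  have h1 := log_choose_le_of_eq hab hbk hka heq hF hh
  have h2 := log_choose_ge (a := a) (b := b) hab hY1 (by omega)
  have h3 := psi_upper hY1
  -- the square root part
  have ha14 : (a : ℝ) ≤ 1.4 * x ^ 2 := by
    rw [haR, hxk]
    linarith
  have h4 : (Nat.sqrt a : ℝ) ≤ 1.18332 * x := by
    refine le_of_sq (by linarith) ?_
    have h5 : ((Nat.sqrt a : ℕ) : ℝ) ^ 2 ≤ a := by exact_mod_cast Nat.sqrt_le' a
    have h6 : (1.18332 * x) ^ 2 = 1.18332 ^ 2 * x ^ 2 := by ring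
    rw [h6]
    have h7 : (0 : ℝ) ≤ x ^ 2 := sq_nonneg x
    have h8 : (1.4 : ℝ) * x ^ 2 ≤ 1.18332 ^ 2 * x ^ 2 :=
      mul_le_mul_of_nonneg_right (by norm_num) h7
    linarith
  have h5 : 3 * Nat.primeCounting (Nat.sqrt a) ≤ Nat.sqrt a := by
    refine Cfsg.Agent.H357.NT.three_pi_le ?_
    rw [Nat.le_sqrt]
    omega
  have h5R : 3 * (Nat.primeCounting (Nat.sqrt a) : ℝ) ≤ (Nat.sqrt a : ℝ) := by exact_mod_cast h5
  have h6 : (Nat.primeCounting (Nat.sqrt a) : ℝ) ≤ 0.39444 * x := by linarith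
  have hapos : (0 : ℝ) < a := by linarith
  have h7 : Real.log a ≤ 2 * Real.log x + 0.3466 := by
    have h8 := Real.log_le_log hapos ha14
    rw [Real.log_mul (by norm_num) (by positivity), hxk, hlogk] at h8
    have h9 : Real.log 1.4 ≤ 0.3466 := by
      have h10 : 2 * Real.log 1.4 ≤ Real.log 2 := by
        have e : 2 * Real.log 1.4 = Real.log (1.4 ^ 2) := by
          rw [Real.log_pow]
          push_cast
          ring
        rw [e]
        exact Real.log_le_log (by norm_num) (by norm_num)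
      have := Real.log_two_lt_d9
      linarith
    linarith
  have hloga : 0 ≤ Real.log a := Real.log_nonneg (by linarith)
  have h8 : (Nat.primeCounting (Nat.sqrt a) : ℝ) * Real.log a ≤
      0.39444 * x * (2 * Real.log x + 0.3466) :=
    mul_le_mul h6 h7 hloga (by positivity)
  -- the exceptional factors
  have h9 : Real.log ((E * F : ℕ) : ℝ) ≤ N * (1.0987 + 2 * Real.log x) := by
    have h10 : Real.log ((E * F : ℕ) : ℝ) ≤ Real.log (((3 * k) ^ N : ℕ) : ℝ) :=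
      Real.log_le_log (by exact_mod_cast Nat.mul_pos hEpos hF) (by exact_mod_cast hEF)
    have h12 : Real.log (((3 * k) ^ N : ℕ) : ℝ) = N * (Real.log 3 + 2 * Real.log x) := by
      push_cast
      rw [Real.log_pow, Real.log_mul (by norm_num) (by linarith), hlogk]
    rw [h12] at h10
    refine h10.trans ?_
    refine mul_le_mul_of_nonneg_left ?_ (by positivity)
    have := Real.log_three_lt_d9
    linarith
  linarith

theorem exists_x {k : ℕ} (hk : 10000 ≤ k) : ∃ x : ℝ, 100 ≤ x ∧ x ^ 2 = k := by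
  have hkR : (10000 : ℝ) ≤ k := by exact_mod_cast hk
  refine ⟨√(k : ℝ), Real.le_sqrt_of_sq_le ?_, Real.sq_sqrt (by linarith)⟩
  linarith

/-- **The Erdős count for S4766.** -/
theorem erdos {k a b Y r E h F : ℕ} (hk : 10000 ≤ k) (hab : a = b + Y) (hbk : b ≤ k) (hka : k ≤ a)
    (hY : 5 * Y ≤ 2 * k) (hr : 12 * k * r ^ 2 ≤ Y ^ 2) (hY2 : 12 * k ≤ Y ^ 2)
    (heq : a ! * b ! * (E * h) = (k !) ^ 2 * F) (hF : 0 < F)
    (hh : ∀ p : ℕ, p.Prime → p ∣ h → p ≤ Y) (hEF : E * F ≤ (3 * k) ^ (4 * r + 5)) : False := by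
  have hY1 : 1 ≤ Y := by
    rcases Nat.eq_zero_or_pos Y with h0 | h0
    · rw [h0] at hY2
      omega
    · exact h0
  obtain ⟨x, hx, hxk⟩ := exists_x hk
  have hYR : (5 : ℝ) * Y ≤ 2 * k := by exact_mod_cast hY
  have hYpos : (0 : ℝ) ≤ Y := Nat.cast_nonneg _
  have hY2R : (12 : ℝ) * k ≤ (Y : ℝ) ^ 2 := by exact_mod_cast hY2
  have hrR : (12 : ℝ) * k * (r : ℝ) ^ 2 ≤ (Y : ℝ) ^ 2 := by exact_mod_cast hr
  have haR : (a : ℝ) = b + Y := by exact_mod_cast hab
  have hkaR : (k : ℝ) ≤ a := by exact_mod_cast hka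
  refine real_contra (x := x) (y := Y) (b := b) (r := r) hx ?_ ?_ ?_ ?_ ?_
  · rw [hxk]
    linarith
  · refine le_of_sq hYpos ?_
    have e : (3.4641 * x) ^ 2 = 3.4641 ^ 2 * x ^ 2 := by ring
    rw [e, hxk]
    have : (3.4641 : ℝ) ^ 2 * k ≤ 12 * k := mul_le_mul_of_nonneg_right (by norm_num) (by positivity)
    linarith
  · refine le_of_sq hYpos ?_
    have e : ((r : ℝ) * (3.4641 * x)) ^ 2 = 3.4641 ^ 2 * (x ^ 2 * (r : ℝ) ^ 2) := by ring
    rw [e, hxk]
    have h11 : (3.4641 : ℝ) ^ 2 * (k * (r : ℝ) ^ 2) ≤ 12 * (k * (r : ℝ) ^ 2) :=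
      mul_le_mul_of_nonneg_right (by norm_num) (by positivity)
    have e2 : (12 : ℝ) * k * (r : ℝ) ^ 2 = 12 * (k * (r : ℝ) ^ 2) := by ring
    linarith
  · rw [hxk]
    linarith
  · have := ineq hk hab hbk hka hY hY1 heq hF hh hEF hx hxk
    push_cast at this
    exact this

/-- **The Erdős count for S4766**, for one exceptional box. -/
theorem erdos' {k a b Y E h F : ℕ} (hk : 10000 ≤ k) (hab : a = b + Y) (hbk : b ≤ k) (hka : k ≤ a)
    (hY : 5 * Y ≤ 2 * k) (hY2 : 2 * k ≤ Y ^ 2)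
    (heq : a ! * b ! * (E * h) = (k !) ^ 2 * F) (hF : 0 < F)
    (hh : ∀ p : ℕ, p.Prime → p ∣ h → p ≤ Y) (hEF : E * F ≤ (3 * k) ^ 4) : False := by
  have hY1 : 1 ≤ Y := by
    rcases Nat.eq_zero_or_pos Y with h0 | h0
    · rw [h0] at hY2
      omega
    · exact h0
  obtain ⟨x, hx, hxk⟩ := exists_x hk
  have hYR : (5 : ℝ) * Y ≤ 2 * k := by exact_mod_cast hY
  have hYpos : (0 : ℝ) ≤ Y := Nat.cast_nonneg _
  have hY2R : (2 : ℝ) * k ≤ (Y : ℝ) ^ 2 := by exact_mod_cast hY2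
  have haR : (a : ℝ) = b + Y := by exact_mod_cast hab
  have hkaR : (k : ℝ) ≤ a := by exact_mod_cast hka
  refine real_contra' (x := x) (y := Y) (b := b) hx ?_ ?_ ?_ ?_
  · rw [hxk]
    linarith
  · refine le_of_sq hYpos ?_
    have e : (1.4142 * x) ^ 2 = 1.4142 ^ 2 * x ^ 2 := by ring
    rw [e, hxk]
    have : (1.4142 : ℝ) ^ 2 * k ≤ 2 * k := mul_le_mul_of_nonneg_right (by norm_num) (by positivity)
    linarith
  · rw [hxk]
    linarith
  · have := ineq hk hab hbk hka hY hY1 heq hF hh hEF hx hxk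
    push_cast at this
    exact this

end Cfsg.Agent.H463.Erd
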